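import Groth.Prelude.Def_RegImm
import Groth.Agent.Lib.FibreDim6.Scheme
import Groth.Agent.Lib.Approx6.Stage
import Mathlib.RingTheory.TensorProduct.MvPolynomial
import Mathlib.RingTheory.TensorProduct.Quotient

/-!
# Descent of relative global complete intersections
-/

universe u

open CategoryTheory Limits AlgebraicGeometry MvPolynomial TensorProduct

set_option linter.style.haveILetI false

noncomputable section

namespace GrothLib.Synt6

/-- The presented algebra commutes with base change. -/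
def relGCIBaseChange (R R' : Type u) [CommRing R] [CommRing R'] [Algebra R R'] {n c : ℕ}
    (F : Fin c → MvPolynomial (Fin n) R) (F' : Fin c → MvPolynomial (Fin n) R')
    (hF : ∀ i, MvPolynomial.map (algebraMap R R') (F i) = F' i) :
    R' ⊗[R] Synt.RelGCIRing R n c F ≃ₐ[R'] Synt.RelGCIRing R' n c F' :=
  (Algebra.TensorProduct.tensorQuotientEquiv (R := R) R' (MvPolynomial (Fin n) R) R'
      (Ideal.span (Set.range F))).trans <|
    Ideal.quotientEquivAlg _ _ (MvPolynomial.algebraTensorAlgEquiv R R') (by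
      rw [Ideal.map_span, Ideal.map_span, ← Set.range_comp, ← Set.range_comp]
      congr 2
      funext i
      simp [hF])

/-- The fibre dimensions of the presented algebra are invariant under change of coefficients. -/
theorem dim_fiber_relGCI (R R' : Type u) [CommRing R] [CommRing R'] [Algebra R R'] {n c : ℕ}
    (F : Fin c → MvPolynomial (Fin n) R) (F' : Fin c → MvPolynomial (Fin n) R')
    (hF : ∀ i, MvPolynomial.map (algebraMap R R') (F i) = F' i) (q : PrimeSpectrum R') :
    ringKrullDim (q.asIdeal.Fiber (Synt.RelGCIRing R' n c F')) =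
      ringKrullDim ((PrimeSpectrum.comap (algebraMap R R') q).asIdeal.Fiber (Synt.RelGCIRing R n c F)) := by
  let B := Synt.RelGCIRing R n c F
  let e := relGCIBaseChange R R' F F' hF
  have h := isPullback_SpecMap_of_isPushout _ _ _ _
    (CommRingCat.isPushout_tensorProduct R R' B).flip
  have sq : IsPullback (Spec.map e.toRingEquiv.toCommRingCatIso.hom)
      (Spec.map (CommRingCat.ofHom (algebraMap R' (Synt.RelGCIRing R' n c F'))))
      (Spec.map (CommRingCat.ofHom (S := R' ⊗[R] B) Algebra.TensorProduct.includeLeftRingHom))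
      (𝟙 _) := by
    refine IsPullback.of_horiz_isIso ⟨?_⟩
    rw [Category.comp_id, ← Spec.map_comp]
    congr 1
    exact CommRingCat.hom_ext (RingHom.ext e.commutes)
  haveI := GrothLib.Approx6.locallyOfFiniteType_map (A₀ := R) (B₀ := B)
  rw [← GrothLib.FibreDim6.dim_fiber_Spec, ← GrothLib.FibreDim6.dim_fiber_Spec]
  exact GrothLib.FibreBC.topologicalKrullDim_fiber (sq.paste_horiz h) q

theorem nontrivial_fiber_iff {R B : Type u} [CommRing R] [CommRing B] [Algebra R B] (p : PrimeSpectrum R) :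
    Nontrivial (p.asIdeal.Fiber B) ↔ ringKrullDim (p.asIdeal.Fiber B) ≠ ⊥ := by
  refine ⟨fun _ h => absurd (h ▸ ringKrullDim_nonneg_of_nontrivial) (not_le.mpr (WithBot.bot_lt_coe _)), fun h => ?_⟩
  by_contra h'
  rw [not_nontrivial_iff_subsingleton] at h'
  exact h ringKrullDim_eq_bot_of_subsingleton

/-- The fibre dimension values allowed in a relative global complete intersection. -/
def GoodDim (n c : ℕ) (d : WithBot ℕ∞) : Prop := d ≠ ⊥ → c ≤ n ∧ d = ((n - c : ℕ) : WithBot ℕ∞)

theorem isRelGCI_iff {R : Type u} [CommRing R] {n c : ℕ} (F : Fin c → MvPolynomial (Fin n) R) :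
    Synt.IsRelGCI R n c F ↔
      ∀ p : PrimeSpectrum R, GoodDim n c (ringKrullDim (p.asIdeal.Fiber (Synt.RelGCIRing R n c F))) :=
  forall_congr' fun p => by rw [GoodDim, ← nontrivial_fiber_iff]

theorem exists_subalgebra_isRelGCI (R : Type u) [CommRing R] (n c : ℕ)
    (F : Fin c → MvPolynomial (Fin n) R) (h : Synt.IsRelGCI R n c F) :
    ∃ (R₀ : Subalgebra ℤ R) (F₀ : Fin c → MvPolynomial (Fin n) R₀), Algebra.FiniteType ℤ R₀ ∧
      (∀ i, MvPolynomial.map (algebraMap R₀ R) (F₀ i) = F i) ∧ Synt.IsRelGCI R₀ n c F₀ := by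
  classical
  let s : Finset R := Finset.univ.biUnion fun i => (F i).support.image fun m => coeff m (F i)
  let A₀ : Subalgebra ℤ R := Algebra.adjoin ℤ ↑s
  have hlift : ∀ i, ∃ G : MvPolynomial (Fin n) A₀, MvPolynomial.map (algebraMap A₀ R) G = F i := fun i => by
    refine MvPolynomial.mem_range_map_iff_coeffs_subset.mpr fun r hr => ⟨⟨r, ?_⟩, rfl⟩
    obtain ⟨m, hm, rfl⟩ := MvPolynomial.mem_coeffs_iff.mp hr
    exact Algebra.subset_adjoin (Finset.mem_coe.mpr (Finset.mem_biUnion.mpr
      ⟨i, Finset.mem_univ i, Finset.mem_image_of_mem _ hm⟩))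
  choose G hG using hlift
  have hA₀ : A₀.FG := Subalgebra.fg_adjoin_finset s
  have : Algebra.FiniteType ℤ A₀ := A₀.fg_iff_finiteType.mp hA₀
  have : IsNoetherianRing A₀ := Algebra.FiniteType.isNoetherianRing ℤ A₀
  have hE : Topology.IsConstructible {p : PrimeSpectrum A₀ |
      ¬ GoodDim n c (ringKrullDim (p.asIdeal.Fiber (Synt.RelGCIRing A₀ n c G)))} := by
    have := (GrothLib.FibreDim6.IsConstrFun.comp
      (GrothLib.FibreDim6.constructible_fiber_dim_noetherian A₀ (Synt.RelGCIRing A₀ n c G))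
      (fun d => ¬ GoodDim n c d)).1 True
    convert this using 1
    ext p
    simp
  obtain ⟨T, hT, hav⟩ := GrothLib.Approx6.exists_stage_avoid (A := R) hE fun p hp => hp
    (by rw [← dim_fiber_relGCI A₀ R G F hG p]; exact (isRelGCI_iff F).mp h p)
  have hTft : Algebra.FiniteType ℤ T := Algebra.FiniteType.trans ‹_› (T.fg_iff_finiteType.mp hT)
  refine ⟨T.restrictScalars ℤ, fun i => MvPolynomial.map (algebraMap A₀ T) (G i), hTft, fun i => ?_, ?_⟩
  · show MvPolynomial.map (algebraMap T R) _ = _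
    rw [MvPolynomial.map_map, ← hG i]
    rfl
  · show Synt.IsRelGCI T n c _
    refine (isRelGCI_iff _).mpr fun q => ?_
    rw [dim_fiber_relGCI A₀ T G _ (fun i => rfl) q]
    exact not_not.mp (hav q)


/-- The square given by a change of coefficients of a presented algebra is cartesian. -/
theorem exists_isPullback_relGCI (R R' : Type u) [CommRing R] [CommRing R'] [Algebra R R'] {n c : ℕ}
    (F : Fin c → MvPolynomial (Fin n) R) (F' : Fin c → MvPolynomial (Fin n) R')
    (hF : ∀ i, MvPolynomial.map (algebraMap R R') (F i) = F' i) :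
    ∃ (v : Spec (CommRingCat.of (Synt.RelGCIRing R' n c F')) ⟶ Spec (CommRingCat.of (Synt.RelGCIRing R n c F))),
      IsPullback v (Spec.map (CommRingCat.ofHom (algebraMap R' (Synt.RelGCIRing R' n c F'))))
        (Spec.map (CommRingCat.ofHom (algebraMap R (Synt.RelGCIRing R n c F))))
        (Spec.map (CommRingCat.ofHom (algebraMap R R'))) := by
  let B := Synt.RelGCIRing R n c F
  let e := relGCIBaseChange R R' F F' hF
  have h := isPullback_SpecMap_of_isPushout _ _ _ _
    (CommRingCat.isPushout_tensorProduct R R' B).flip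
  have sq : IsPullback (Spec.map e.toRingEquiv.toCommRingCatIso.hom)
      (Spec.map (CommRingCat.ofHom (algebraMap R' (Synt.RelGCIRing R' n c F'))))
      (Spec.map (CommRingCat.ofHom (S := R' ⊗[R] B) Algebra.TensorProduct.includeLeftRingHom))
      (𝟙 _) := by
    refine IsPullback.of_horiz_isIso ⟨?_⟩
    rw [Category.comp_id, ← Spec.map_comp]
    congr 1
    exact CommRingCat.hom_ext (RingHom.ext e.commutes)
  exact ⟨_, by simpa using sq.paste_horiz h⟩

theorem noetherian_approximation_standardSyntomic {X S : Scheme.{u}} (f : X ⟶ S)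
    (hf : Synt.IsStandardSyntomic f) :
    ∃ (X₀ S₀ : Scheme.{u}) (f₀ : X₀ ⟶ S₀) (g : S ⟶ S₀) (g' : X ⟶ X₀), IsAffine X₀ ∧ IsAffine S₀ ∧
      IsPullback g' f f₀ g ∧ Algebra.FiniteType ℤ Γ(S₀, ⊤) ∧ LocallyOfFiniteType f₀ ∧
      Synt.IsStandardSyntomic f₀ := by
  obtain ⟨R, _, n, c, F, hR, e₁, e₂, he⟩ := hf
  obtain ⟨R₀, F₀, hfin, hF, hR₀⟩ := exists_subalgebra_isRelGCI R n c F hR
  obtain ⟨v, hv⟩ := exists_isPullback_relGCI R₀ R F₀ F hF
  have sq : IsPullback e₁.hom f (Spec.map (CommRingCat.ofHom (algebraMap R (Synt.RelGCIRing R n c F)))) e₂.hom :=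
    IsPullback.of_horiz_isIso ⟨he⟩
  exact ⟨_, _, _, _, _, inferInstance, inferInstance, sq.paste_horiz hv, GrothLib.Approx6.finiteType_top,
    GrothLib.Approx6.locallyOfFiniteType_map, R₀, inferInstance, n, c, F₀, hR₀, Iso.refl _, Iso.refl _, by simp⟩

end GrothLib.Synt6
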